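import Mathlib
import Cfsg.Agent.SporadicB.J1.Crit

/-!
# The first Janko group: cores of involution centralisers, abstract part

`Dat K`: finitely many facts about a group `K` of order 175560. Consequences: all involutions are conjugate, the
centraliser `C` of an involution has order 120 and `O(C) = 1`, and an automorphism of odd order which fixes all elements
of `C` is trivial.
-/

set_option autoImplicit false

namespace Cfsg.Agent.UGT.EndJ1.Abs

open Subgroup Cfsg.Agent.SporadicB.J1.Crit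
open scoped Pointwise

/-- the facts -/
structure Dat (K : Type*) [Group K] where
  E : Subgroup K
  t : K
  d : K
  b : K
  c : K
  g : K
  k : K
  f : Fin 210 → K
  card : Nat.card K = 175560
  cardE : Nat.card E = 8
  sqE : ∀ x ∈ E, x * x = 1
  tE : t ∈ E
  t1 : t ≠ 1
  dE : ∀ x ∈ E, d * x * d⁻¹ ∈ E
  reg : ∀ x ∈ E, x ≠ 1 → ∃ n : ℕ, d ^ n * t * (d ^ n)⁻¹ = x
  bt : b * t = t * b
  b3 : b ^ 3 = 1
  b1 : b ≠ 1
  ct : c * t = t * c
  c5 : c ^ 5 = 1
  c1 : c ≠ 1
  gt : g * t = t * g
  hb : (b * (g * b * g⁻¹)) * (b * (g * b * g⁻¹)) = 1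
  hb1 : b * (g * b * g⁻¹) ≠ 1
  kt : k * t = t * k
  hc : (c * (k * (c * c) * k⁻¹)) * (c * (k * (c * c) * k⁻¹)) = 1
  hc1 : c * (k * (c * c) * k⁻¹) ≠ 1
  inj : Function.Injective (fun i => f i * t * (f i)⁻¹)
  gen : Subgroup.closure ((centralizer ({t} : Set K) : Set K) ∪ {d}) = ⊤

namespace Dat

variable {K : Type*} [Group K]

theorem mem_cen {x y : K} : y ∈ centralizer ({x} : Set K) ↔ y * x = x * y :=
  mem_centralizer_singleton_iff

theorem fin (D : Dat K) : Finite K := Nat.finite_of_card_ne_zero (by rw [D.card]; norm_num)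

theorem tt (D : Dat K) : D.t * D.t = 1 := D.sqE _ D.tE

theorem commE (D : Dat K) {x y : K} (hx : x ∈ D.E) (hy : y ∈ D.E) : x * y = y * x := by
  have h1 := D.sqE _ hx
  have h2 := D.sqE _ hy
  have h3 := D.sqE _ (D.E.mul_mem hx hy)
  have hx' : x⁻¹ = x := inv_eq_of_mul_eq_one_right h1
  have hy' : y⁻¹ = y := inv_eq_of_mul_eq_one_right h2
  calc x * y = (x * y)⁻¹ := (inv_eq_of_mul_eq_one_right h3).symm
    _ = y * x := by rw [mul_inv_rev, hx', hy']

theorem E_le (D : Dat K) : D.E ≤ centralizer ({D.t} : Set K) :=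
  fun _ hx => mem_cen.2 (D.commE hx D.tE)

/-- the centralizer of the involution has order 120 -/
theorem card_C (D : Dat K) : Nat.card (centralizer ({D.t} : Set K)) = 120 := by
  have hfin := D.fin
  set C := centralizer ({D.t} : Set K) with hC
  have h8 : 8 ∣ Nat.card C := D.cardE ▸ card_dvd_of_le D.E_le
  have h3 : 3 ∣ Nat.card C := dvd_card_of_pow (by norm_num) D.b3 D.b1 C (mem_cen.2 D.bt)
  have h5 : 5 ∣ Nat.card C := dvd_card_of_pow (by norm_num) D.c5 D.c1 C (mem_cen.2 D.ct)
  have hmul := C.card_mul_index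
  rw [D.card] at hmul
  have hidx : 210 ≤ C.index := by
    have hinj : Function.Injective (fun i => (D.f i : K ⧸ C)) := by
      intro i j hij
      apply D.inj
      have h1 : (D.f i)⁻¹ * D.f j ∈ C := QuotientGroup.eq.1 hij
      have h2 := mem_cen.1 h1
      show D.f i * D.t * (D.f i)⁻¹ = D.f j * D.t * (D.f j)⁻¹
      calc D.f i * D.t * (D.f i)⁻¹ = D.f i * (D.t * ((D.f i)⁻¹ * D.f j)) * (D.f j)⁻¹ := by group
        _ = D.f i * (((D.f i)⁻¹ * D.f j) * D.t) * (D.f j)⁻¹ := by rw [h2]
        _ = _ := by group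
    have := Nat.card_le_card_of_injective _ hinj
    rwa [Nat.card_fin] at this
  have h120 : 120 ∣ Nat.card C := by
    have h24 : 3 * 8 ∣ Nat.card C := Nat.Coprime.mul_dvd_of_dvd_of_dvd (by norm_num) h3 h8
    exact Nat.Coprime.mul_dvd_of_dvd_of_dvd (m := 5) (n := 24) (by norm_num) h5 h24
  obtain ⟨m, hm⟩ := h120
  rw [hm] at hmul
  have h1 : m * C.index = 1463 := by nlinarith
  have hm0 : 0 < m := by
    rcases Nat.eq_zero_or_pos m with h | h
    · rw [h] at h1; omega
    · exact h
  have hm7 : m < 7 := by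
    by_contra h
    have : 7 * 210 ≤ m * C.index := Nat.mul_le_mul (by omega) hidx
    omega
  have hm1 : m = 1 := by
    have hd : m ∣ 1463 := ⟨_, h1.symm⟩
    interval_cases m <;> first | rfl | (exfalso; revert hd; decide)
  rw [hm, hm1]

/-- the centralizer of the involution has no normal subgroup of odd order -/
theorem core (D : Dat K) (N : Subgroup K) (hN : N ≤ centralizer ({D.t} : Set K))
    (hn : ∀ x ∈ centralizer ({D.t} : Set K), ∀ n ∈ N, x * n * x⁻¹ ∈ N) (hodd : Odd (Nat.card N)) :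
    N = ⊥ := by
  have hfin := D.fin
  set C := centralizer ({D.t} : Set K) with hC
  let M : Subgroup C := N.subgroupOf C
  have hM : M.Normal := ⟨fun n hn' x => mem_subgroupOf.2 (hn x x.2 n (mem_subgroupOf.1 hn'))⟩
  have hcard : Nat.card M = Nat.card N := Nat.card_congr (subgroupOfEquivOfLe hN).toEquiv
  have hno : ∀ x : C, x ∈ M → x * x = 1 → x = 1 := by
    intro x hx hxx
    have h1 : orderOf x ∣ 2 := orderOf_dvd_of_pow_eq_one (by rw [pow_two]; exact hxx)
    have h2 : orderOf x ∣ Nat.card M := by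
      have := orderOf_dvd_natCard (⟨x, hx⟩ : M)
      rwa [Subgroup.orderOf_mk] at this
    rw [hcard] at h2
    rcases (Nat.dvd_prime Nat.prime_two).1 h1 with h | h
    · exact orderOf_eq_one_iff.1 h
    · exfalso
      rw [h] at h2
      exact (Nat.not_even_iff_odd.2 hodd) (even_iff_two_dvd.2 h2)
  let b' : C := ⟨D.b, mem_cen.2 D.bt⟩
  let c' : C := ⟨D.c, mem_cen.2 D.ct⟩
  let g' : C := ⟨D.g, mem_cen.2 D.gt⟩
  let k' : C := ⟨D.k, mem_cen.2 D.kt⟩
  have h3 : ¬ 3 ∣ Nat.card M := by
    intro h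
    have hb : b' ∈ M := mem_of_pow_prime M (by norm_num) h (by rw [D.card_C]; norm_num)
      (Subtype.ext D.b3)
    have hx : b' * (g' * b' * g'⁻¹) ∈ M := M.mul_mem hb (hM.conj_mem _ hb _)
    have := hno _ hx (Subtype.ext D.hb)
    exact D.hb1 (congrArg Subtype.val this)
  have h5 : ¬ 5 ∣ Nat.card M := by
    intro h
    have hb : c' ∈ M := mem_of_pow_prime M (by norm_num) h (by rw [D.card_C]; norm_num)
      (Subtype.ext D.c5)
    have hx : c' * (k' * (c' * c') * k'⁻¹) ∈ M := M.mul_mem hb (hM.conj_mem _ (M.mul_mem hb hb) _)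
    have := hno _ hx (Subtype.ext D.hc)
    exact D.hc1 (congrArg Subtype.val this)
  have h2 : ¬ 2 ∣ Nat.card M := by
    rw [hcard]
    exact fun h => (Nat.not_even_iff_odd.2 hodd) (even_iff_two_dvd.2 h)
  have hdvd : Nat.card M ∣ 120 := D.card_C ▸ card_subgroup_dvd_card M
  have h1 : Nat.card M = 1 := by
    have key : ∀ n : ℕ, n ∣ 120 → ¬ 2 ∣ n → ¬ 3 ∣ n → ¬ 5 ∣ n → n = 1 := by
      intro n hn h2 h3 h5
      have c2 : Nat.Coprime n 8 := by
        rw [show 8 = 2 ^ 3 by norm_num]
        exact Nat.Coprime.pow_right 3 ((Nat.prime_two.coprime_iff_not_dvd.2 h2).symm)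
      have c3 : Nat.Coprime n 3 := ((Nat.Prime.coprime_iff_not_dvd (by norm_num)).2 h3).symm
      have c5 : Nat.Coprime n 5 := ((Nat.Prime.coprime_iff_not_dvd (by norm_num)).2 h5).symm
      have c : Nat.Coprime n 120 := by
        rw [show 120 = 8 * (3 * 5) by norm_num]
        exact c2.mul_right (c3.mul_right c5)
      exact Nat.Coprime.eq_one_of_dvd c hn
    exact key _ hdvd h2 h3 h5
  rw [hcard] at h1
  exact card_eq_one.1 h1

/-- the automizer of a Sylow 2-subgroup of the centralizer -/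
theorem cent_E (D : Dat K) {x : K} (hx : ∀ v ∈ D.E, x * v = v * x) : x ∈ D.E := by
  have hfin := D.fin
  set C := centralizer ({D.t} : Set K) with hC
  set Z := centralizer (D.E : Set K) with hZ
  have hEZ : D.E ≤ Z := fun y hy => mem_centralizer_iff.2 fun v hv => D.commE hv hy
  have hZC : Z ≤ C := fun y hy => mem_cen.2 (mem_centralizer_iff.1 hy _ D.tE).symm
  have hxZ : x ∈ Z := mem_centralizer_iff.2 fun v hv => (hx v hv).symm
  -- no elements of prime order `p` with `n` bounded
  have key : ∀ p : ℕ, p.Prime → ¬ p ∣ 8 → (∀ n : ℕ, n * (8 * p) ∣ 120 → n % p = 1 % p → n = 1) →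
      ¬ p ∣ Nat.card Z := by
    intro p hp hp8 harith hpZ
    have hpf : Fact p.Prime := ⟨hp⟩
    obtain ⟨z, hz⟩ := exists_prime_orderOf_dvd_card' p hpZ
    have hp2 : ¬ p ^ 2 ∣ 120 := by
      intro h
      have h1 : p * p ∣ 8 * 15 := by rw [← pow_two]; exact h
      have h2 : Nat.Coprime (p * p) 8 :=
        ((Nat.Prime.coprime_iff_not_dvd hp).2 hp8).mul_left ((Nat.Prime.coprime_iff_not_dvd hp).2 hp8)
      have h3 : p * p ∣ 15 := h2.dvd_of_dvd_mul_left h1
      have h4 : p ∣ 15 := (dvd_mul_right p p).trans h3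
      have h5 : p ≤ 15 := Nat.le_of_dvd (by norm_num) h4
      have h6 : p * p ≤ 15 := Nat.le_of_dvd (by norm_num) h3
      have h7 : p ≤ 3 := by nlinarith
      interval_cases p <;> omega
    let y : C := ⟨(z : K), hZC z.2⟩
    have hy : orderOf y = p := by
      rw [Subgroup.orderOf_mk, Subgroup.orderOf_coe]
      exact hz
    have hcard : Nat.card (zpowers y) = p := by rw [Nat.card_zpowers, hy]
    have hpg : IsPGroup p (zpowers y) := IsPGroup.of_card (n := 1) (by rw [hcard, pow_one])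
    have hC120 : Nat.card C = 120 := D.card_C
    have hmul := (zpowers y).card_mul_index
    rw [hcard, hC120] at hmul
    have hidx : ¬ p ∣ (zpowers y).index := by
      intro h
      apply hp2
      rw [pow_two, ← hmul]
      exact Nat.mul_dvd_mul_left p h
    let P : Sylow p C := hpg.toSylow hidx
    have hP : (P : Subgroup C) = zpowers y := rfl
    -- the Sylow 2-subgroup normalizes `P`
    have hEN : D.E.subgroupOf C ≤ normalizer (P : Set C) := by
      intro v hv
      have hvy : v * y = y * v := by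
        apply Subtype.ext
        exact mem_centralizer_iff.1 z.2 _ (mem_subgroupOf.1 hv)
      have hc : ∀ n ∈ zpowers y, v * n * v⁻¹ = n := by
        rintro _ ⟨j, rfl⟩
        have h1 : Commute v (y ^ j) := (show Commute v y from hvy).zpow_right j
        show v * y ^ j * v⁻¹ = y ^ j
        rw [h1.eq, mul_inv_cancel_right]
      have hvy' : v⁻¹ * y = y * v⁻¹ := by
        rw [inv_mul_eq_iff_eq_mul, ← mul_assoc, hvy, mul_inv_cancel_right]
      have hc' : ∀ n ∈ zpowers y, v⁻¹ * n * v = n := by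
        rintro _ ⟨j, rfl⟩
        have h1 : Commute v⁻¹ (y ^ j) := (show Commute v⁻¹ y from hvy').zpow_right j
        show v⁻¹ * y ^ j * v = y ^ j
        rw [h1.eq, inv_mul_cancel_right]
      show v ∈ normalizer ((P : Subgroup C) : Set C)
      rw [mem_normalizer_iff]
      intro n
      show n ∈ zpowers y ↔ v * n * v⁻¹ ∈ zpowers y
      constructor
      · intro hn
        rw [hc n hn]; exact hn
      · intro hn
        have h1 := hc' _ hn
        have h2 : v⁻¹ * (v * n * v⁻¹) * v = n := by group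
        rw [h2] at h1
        rw [h1]; exact hn
    have h8 : 8 ∣ Nat.card (normalizer (P : Set C)) := by
      have h1 : Nat.card (D.E.subgroupOf C) = 8 := by
        rw [Nat.card_congr (subgroupOfEquivOfLe D.E_le).toEquiv, D.cardE]
      rw [← h1]
      exact card_dvd_of_le hEN
    have hpN : p ∣ Nat.card (normalizer (P : Set C)) := by
      have h1 : Nat.card (P : Subgroup C) ∣ Nat.card (normalizer (P : Set C)) :=
        card_dvd_of_le le_normalizer
      rw [hP, hcard] at h1
      exact h1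
    have h8p : 8 * p ∣ Nat.card (normalizer (P : Set C)) :=
      Nat.Coprime.mul_dvd_of_dvd_of_dvd ((Nat.Prime.coprime_iff_not_dvd hp).2 hp8).symm h8 hpN
    have hn1 := card_sylow_modEq_one p C
    have hn2 := P.card_eq_index_normalizer
    have hn3 := (normalizer (P : Set C)).card_mul_index
    have hn4 : Nat.card (Sylow p C) = 1 := by
      apply harith _ _ hn1
      rw [hn2, ← hC120, ← hn3, mul_comm]
      exact Nat.mul_dvd_mul_right h8p _
    have hPn : (P : Subgroup C).Normal := by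
      rw [← normalizer_eq_top_iff, ← index_eq_one]
      exact hn2.symm.trans hn4
    -- `P` is a normal subgroup of odd order
    have hbot := D.core ((P : Subgroup C).map C.subtype) (by
        rintro _ ⟨n, -, rfl⟩
        exact n.2) (by
        rintro x hx _ ⟨n, hn, rfl⟩
        exact ⟨⟨x, hx⟩ * n * ⟨x, hx⟩⁻¹, hPn.conj_mem n hn _, rfl⟩) (by
        rw [card_map_of_injective C.subtype_injective, hP, hcard]
        rcases hp.eq_two_or_odd' with h | h
        · exfalso; apply hp8; rw [h]; norm_num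
        · exact h)
    have h1 : (y : K) ∈ (P : Subgroup C).map C.subtype := ⟨y, by rw [hP]; exact mem_zpowers y, rfl⟩
    rw [hbot, mem_bot] at h1
    have h2 : y = 1 := Subtype.ext h1
    rw [h2, orderOf_one] at hy
    exact hp.ne_one hy.symm
  have h3 : ¬ 3 ∣ Nat.card Z := by
    apply key 3 (by norm_num) (by norm_num)
    intro n hn h
    have h1 : n ∣ 5 := by
      have h2 : n * 24 ∣ 5 * 24 := hn
      exact Nat.dvd_of_mul_dvd_mul_right (by norm_num) h2
    have h2 : n ≤ 5 := Nat.le_of_dvd (by norm_num) h1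
    interval_cases n <;> omega
  have h5 : ¬ 5 ∣ Nat.card Z := by
    apply key 5 (by norm_num) (by norm_num)
    intro n hn h
    have h1 : n ∣ 3 := by
      have h2 : n * 40 ∣ 3 * 40 := hn
      exact Nat.dvd_of_mul_dvd_mul_right (by norm_num) h2
    have h2 : n ≤ 3 := Nat.le_of_dvd (by norm_num) h1
    interval_cases n <;> omega
  have h8 : Nat.card Z ∣ 8 := by
    have h1 : Nat.card Z ∣ 8 * (3 * 5) := by
      rw [show 8 * (3 * 5) = 120 by norm_num, ← D.card_C]
      exact card_dvd_of_le hZC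
    have c3 : Nat.Coprime (Nat.card Z) 3 := ((Nat.Prime.coprime_iff_not_dvd (by norm_num)).2 h3).symm
    have c5 : Nat.Coprime (Nat.card Z) 5 := ((Nat.Prime.coprime_iff_not_dvd (by norm_num)).2 h5).symm
    exact (c3.mul_right c5).dvd_of_dvd_mul_right h1
  have hEZ' : D.E = Z := by
    apply eq_of_le_of_card_ge hEZ
    rw [D.cardE]
    exact Nat.le_of_dvd (by norm_num) h8
  rw [hEZ']
  exact hxZ

/-- the Sylow 2-subgroup -/
theorem sylow (D : Dat K) : ∃ S : Sylow 2 K, (S : Subgroup K) = D.E := by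
  have h2 : Fact (Nat.Prime 2) := ⟨Nat.prime_two⟩
  have hfin := D.fin
  have hp : IsPGroup 2 D.E := IsPGroup.of_card (n := 3) (by rw [D.cardE]; norm_num)
  refine ⟨hp.toSylow ?_, rfl⟩
  have h1 := D.E.card_mul_index
  rw [D.cardE, D.card] at h1
  omega

theorem sylow_conj (D : Dat K) (S : Sylow 2 K) : ∃ g : K, ∀ x, x ∈ (S : Subgroup K) ↔ g * x * g⁻¹ ∈ D.E := by
  have h2 : Fact (Nat.Prime 2) := ⟨Nat.prime_two⟩
  have hfin := D.fin
  obtain ⟨T, hT⟩ := D.sylow
  obtain ⟨g, hg⟩ := MulAction.exists_smul_eq K S T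
  refine ⟨g, fun x => ?_⟩
  rw [← hT, ← hg]
  rw [Sylow.coe_subgroup_smul, Subgroup.mem_smul_pointwise_iff_exists]
  constructor
  · intro hx
    exact ⟨x, hx, rfl⟩
  · rintro ⟨y, hy, h⟩
    have h1 : g * y * g⁻¹ = g * x * g⁻¹ := h
    have h3 : y = x := by simpa using h1
    rwa [← h3]

/-- all involutions are conjugate -/
theorem conj_t (D : Dat K) {u : K} (hu : u * u = 1) (hu1 : u ≠ 1) : ∃ g : K, g * D.t * g⁻¹ = u := by
  have h2 : Fact (Nat.Prime 2) := ⟨Nat.prime_two⟩
  have hfin := D.fin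
  have hp : IsPGroup 2 (zpowers u) := by
    have h1 : orderOf u = 2 := orderOf_eq_prime (by rw [pow_two]; exact hu) hu1
    exact IsPGroup.of_card (n := 1) (by rw [Nat.card_zpowers, h1, pow_one])
  obtain ⟨S, hS⟩ := hp.exists_le_sylow
  obtain ⟨g, hg⟩ := D.sylow_conj S
  have h1 : g * u * g⁻¹ ∈ D.E := (hg u).1 (hS (mem_zpowers u))
  have h3 : g * u * g⁻¹ ≠ 1 := fun h => hu1 (conj_eq_one_iff.1 h)
  obtain ⟨n, hn⟩ := D.reg _ h1 h3
  refine ⟨g⁻¹ * D.d ^ n, ?_⟩
  calc g⁻¹ * D.d ^ n * D.t * (g⁻¹ * D.d ^ n)⁻¹ = g⁻¹ * (D.d ^ n * D.t * (D.d ^ n)⁻¹) * g := by group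
    _ = g⁻¹ * (g * u * g⁻¹) * g := by rw [hn]
    _ = u := by group

/-- an automorphism of odd order fixing the centralizer of `t` is trivial -/
theorem aut_t (D : Dat K) (α : MulAut K) (hα : Odd (orderOf α)) (hfix : ∀ x, x * D.t = D.t * x → α x = x) :
    α = 1 := by
  have hE : ∀ v ∈ D.E, α v = v := fun v hv => hfix v (D.commE hv D.tE)
  -- the action on `d`
  have h1 : D.d⁻¹ * α D.d ∈ D.E := by
    apply D.cent_E
    intro v hv
    have h2 : α (D.d * v * D.d⁻¹) = D.d * v * D.d⁻¹ := hE _ (D.dE v hv)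
    rw [map_mul, map_mul, map_inv, hE v hv] at h2
    calc D.d⁻¹ * α D.d * v = D.d⁻¹ * (α D.d * v * (α D.d)⁻¹) * α D.d := by group
      _ = D.d⁻¹ * (D.d * v * D.d⁻¹) * α D.d := by rw [h2]
      _ = v * (D.d⁻¹ * α D.d) := by group
  set v := D.d⁻¹ * α D.d with hv
  have h2 : α D.d = D.d * v := by rw [hv]; group
  have h3 : (α ^ 2) D.d = D.d := by
    rw [pow_two, MulAut.mul_apply, h2, map_mul, hE v h1, h2, mul_assoc, D.sqE v h1, mul_one]
  have h4 : ∀ x ∈ (centralizer ({D.t} : Set K) : Set K) ∪ {D.d}, (α ^ 2) x = x := by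
    rintro x (hx | rfl)
    · rw [pow_two, MulAut.mul_apply, hfix x (mem_cen.1 hx), hfix x (mem_cen.1 hx)]
    · exact h3
  have h5 : α ^ 2 = 1 := by
    have h6 : (⊤ : Subgroup K) ≤ (α ^ 2 : MulAut K).toMonoidHom.eqLocus (MonoidHom.id K) := by
      rw [← D.gen, closure_le]
      intro x hx
      exact h4 x hx
    ext x
    exact h6 (mem_top x)
  obtain ⟨m, hm⟩ := hα
  have h6 : orderOf α ∣ 2 := orderOf_dvd_of_pow_eq_one h5
  have h7 : orderOf α = 1 := by
    rcases (Nat.dvd_prime Nat.prime_two).1 h6 with h | h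
    · exact h
    · omega
  exact orderOf_eq_one_iff.1 h7

end Dat

/-- the facts about a simple group which are used, in a form invariant under isomorphisms -/
structure Bal (K : Type*) [Group K] : Prop where
  fin : Finite K
  syl : ∀ S : Sylow 2 K, Nat.card S = 8 ∧ ∀ x ∈ (S : Subgroup K), x * x = 1
  core : ∀ u : K, u * u = 1 → u ≠ 1 → ∀ N : Subgroup K, N ≤ centralizer ({u} : Set K) →
    (∀ x ∈ centralizer ({u} : Set K), ∀ n ∈ N, x * n * x⁻¹ ∈ N) → Odd (Nat.card N) → N = ⊥
  aut : ∀ u : K, u * u = 1 → u ≠ 1 → ∀ α : MulAut K, Odd (orderOf α) →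
    (∀ x, x * u = u * x → α x = x) → α = 1

theorem Dat.bal {K : Type*} [Group K] (D : Dat K) : Bal K := by
  have hfin := D.fin
  refine ⟨hfin, ?_, ?_, ?_⟩
  · intro S
    obtain ⟨g, hg⟩ := D.sylow_conj S
    refine ⟨?_, ?_⟩
    · have h1 : (S : Subgroup K).map (MulAut.conj g).toMonoidHom = D.E := by
        ext x
        constructor
        · rintro ⟨y, hy, rfl⟩
          exact (hg y).1 hy
        · intro hx
          refine ⟨g⁻¹ * x * g, (hg _).2 ?_, ?_⟩
          · have : g * (g⁻¹ * x * g) * g⁻¹ = x := by group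
            rwa [this]
          · show g * (g⁻¹ * x * g) * g⁻¹ = x
            group
      have h3 : Nat.card ((S : Subgroup K).map (MulAut.conj g).toMonoidHom) = Nat.card (S : Subgroup K) :=
        card_map_of_injective (f := (MulAut.conj g).toMonoidHom) (MulAut.conj g).injective
      rw [h1, D.cardE] at h3
      exact h3.symm
    · intro x hx
      have h1 := D.sqE _ ((hg x).1 hx)
      have h2 : g * (x * x) * g⁻¹ = 1 := by
        rw [← h1]; group
      exact conj_eq_one_iff.1 h2
  · intro u hu hu1 N hN hn hodd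
    obtain ⟨g, rfl⟩ := D.conj_t hu hu1
    have hbot := D.core (N.comap (MulAut.conj g).toMonoidHom) (by
        intro x hx
        have h1 : g * x * g⁻¹ ∈ N := hx
        have h2 := Dat.mem_cen.1 (hN h1)
        rw [Dat.mem_cen]
        have h3 : g * (x * D.t) * g⁻¹ = g * (D.t * x) * g⁻¹ := by
          calc g * (x * D.t) * g⁻¹ = g * x * g⁻¹ * (g * D.t * g⁻¹) := by group
            _ = g * D.t * g⁻¹ * (g * x * g⁻¹) := h2
            _ = _ := by group
        simpa using h3) (by
        intro x hx n hn'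
        show g * (x * n * x⁻¹) * g⁻¹ ∈ N
        have h1 : g * n * g⁻¹ ∈ N := hn'
        have h2 : g * x * g⁻¹ ∈ centralizer ({g * D.t * g⁻¹} : Set K) := by
          rw [Dat.mem_cen] at hx ⊢
          calc g * x * g⁻¹ * (g * D.t * g⁻¹) = g * (x * D.t) * g⁻¹ := by group
            _ = g * (D.t * x) * g⁻¹ := by rw [hx]
            _ = _ := by group
        have h3 := hn _ h2 _ h1
        have h4 : g * x * g⁻¹ * (g * n * g⁻¹) * (g * x * g⁻¹)⁻¹ = g * (x * n * x⁻¹) * g⁻¹ := by group
        rwa [h4] at h3) (by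
        have h1 : Nat.card (N.comap (MulAut.conj g).toMonoidHom) = Nat.card N := by
          rw [Subgroup.comap_equiv_eq_map_symm']
          exact card_map_of_injective (f := (MulAut.conj g).symm.toMonoidHom) (MulAut.conj g).symm.injective
        rw [h1]; exact hodd)
    rw [eq_bot_iff]
    intro n hn'
    have h1 : g⁻¹ * n * g ∈ N.comap (MulAut.conj g).toMonoidHom := by
      show g * (g⁻¹ * n * g) * g⁻¹ ∈ N
      have : g * (g⁻¹ * n * g) * g⁻¹ = n := by group
      rwa [this]
    rw [hbot, mem_bot] at h1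
    rw [mem_bot]
    calc n = g * (g⁻¹ * n * g) * g⁻¹ := by group
      _ = 1 := by rw [h1]; group
  · intro u hu hu1 α hα hfix
    obtain ⟨g, rfl⟩ := D.conj_t hu hu1
    -- conjugate the automorphism
    let β : MulAut K := (MulAut.conj g)⁻¹ * α * MulAut.conj g
    have hβ : β = 1 := by
      apply D.aut_t
      · have h1 : orderOf β = orderOf α := by
          have h2 : β = (MulAut.conj g)⁻¹ * α * ((MulAut.conj g)⁻¹)⁻¹ := by rw [inv_inv]
          rw [h2]
          exact MulEquiv.orderOf_eq (MulAut.conj ((MulAut.conj g)⁻¹ : MulAut K)) α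
        rw [h1]; exact hα
      · intro x hx
        show (MulAut.conj g)⁻¹ (α (MulAut.conj g x)) = x
        have h1 : α (MulAut.conj g x) = MulAut.conj g x := by
          apply hfix
          rw [MulAut.conj_apply]
          calc g * x * g⁻¹ * (g * D.t * g⁻¹) = g * (x * D.t) * g⁻¹ := by group
            _ = g * (D.t * x) * g⁻¹ := by rw [hx]
            _ = _ := by group
        rw [h1]
        exact MulAut.inv_apply_self K _ _
    have h1 : α = MulAut.conj g * β * (MulAut.conj g)⁻¹ := by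
      show α = MulAut.conj g * ((MulAut.conj g)⁻¹ * α * MulAut.conj g) * (MulAut.conj g)⁻¹
      group
    rw [h1, hβ]
    group

end Cfsg.Agent.UGT.EndJ1.Abs
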