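import Cfsg.Agent.OddHalf.EightTorus.Auto
import Cfsg.Agent.Lib.SylowNormalInf
import Cfsg.Agent.UGT.EndBase
import Cfsg.Agent.UGT.EndJ1.Abs

/-!
# Simple groups with elementary abelian Sylow 2-subgroups of order 8: involutory automorphisms are inner

Together with `Abs.Bal` this gives `EndBase.AutCoreFree` (so: locally balanced).
-/

set_option autoImplicit false

namespace Cfsg.Agent.UGT.EndJ1.Inner

open Subgroup Cfsg Cfsg.Agent.StdL2.G23Aut Cfsg.Agent.OddHalf.EightTorus

universe u

/-- **An automorphism of order 2 of a simple group with elementary abelian Sylow 2-subgroups of order 8 is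
inner.** -/
theorem exists_conj {K : Type u} [Group K] [Finite K] [IsSimpleGroup K] (hna : ∃ a b : K, a * b ≠ b * a)
    (hsyl : ∀ S : Sylow 2 K, Nat.card S = 8 ∧ ∀ x ∈ (S : Subgroup K), x * x = 1)
    (σ : MulAut K) (hσ : orderOf σ = 2) : ∃ v : K, σ = MulAut.conj v := by
  classical
  have h2 : Fact (Nat.Prime 2) := ⟨Nat.prime_two⟩
  have hc : center K = ⊥ := by
    rcases (inferInstance : (center K).Normal).eq_bot_or_eq_top with h | h
    · exact h
    · exfalso
      obtain ⟨a, b, hab⟩ := hna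
      have h1 : b ∈ center K := by rw [h]; trivial
      exact hab (mem_center_iff.1 h1 a)
  have hinj := EndBase.conj_inj hc
  set R : Subgroup (MulAut K) := (MulAut.conj : K →* MulAut K).range with hR
  have hRn : R.Normal := by
    refine ⟨?_⟩
    rintro _ ⟨x, rfl⟩ φ
    exact ⟨φ x, EndBase.conj_app φ x⟩
  have e : K ≃* R := MonoidHom.ofInjective hinj
  have hRs : IsSimpleGroup R := e.symm.isSimpleGroup
  have hpσ : IsPGroup 2 (zpowers σ) := IsPGroup.of_card (n := 1) (by rw [Nat.card_zpowers, hσ, pow_one])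
  obtain ⟨P, hP⟩ := hpσ.exists_le_sylow
  let V : Subgroup (MulAut K) := (P : Subgroup (MulAut K)) ⊓ R
  have hVR : V ≤ R := inf_le_right
  have hVodd : ¬ 2 ∣ V.relIndex R := by
    have h1 := Lib.SylowNormalInf.not_dvd_relIndex P R
    rwa [← inf_relIndex_right] at h1
  -- the Sylow subgroup of `K`
  have hSp : IsPGroup 2 (V.comap (MulAut.conj : K →* MulAut K)) :=
    (P.isPGroup'.to_le inf_le_left).comap_of_injective _ hinj
  have hidx : ¬ 2 ∣ (V.comap (MulAut.conj : K →* MulAut K)).index := by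
    rw [index_comap]
    exact hVodd
  let S : Sylow 2 K := hSp.toSylow hidx
  have hS : (S : Subgroup K) = V.comap (MulAut.conj : K →* MulAut K) := rfl
  have hmap : (S : Subgroup K).map (MulAut.conj : K →* MulAut K) = V := by
    rw [hS, map_comap_eq, inf_eq_right]
    exact hVR
  obtain ⟨h8, hsq⟩ := hsyl S
  have hoct : Oct V := by
    refine ⟨?_, ?_⟩
    · rw [← hmap, card_map_of_injective hinj]
      exact h8
    · intro v hv
      rw [← hmap] at hv
      obtain ⟨s, hs, rfl⟩ := hv
      rw [← map_mul, hsq s hs, map_one]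
  have hLoc : Auto.Loc R V (1 : MulAut K) := by
    refine ⟨hRs, ?_, hVR, hVodd, hoct, fun _ _ => by rw [mul_one, one_mul], fun g _ => ?_⟩
    · obtain ⟨a, b, hab⟩ := hna
      refine ⟨_, ⟨a, rfl⟩, _, ⟨b, rfl⟩, fun h => hab (hinj ?_)⟩
      rw [map_mul, map_mul, h]
    · rw [normalizer_eq_top_iff.2 hRn]
      exact mem_top g
  obtain ⟨-, -, -, -, hcomm⟩ := hLoc.main
  have hσN : zpowers σ ≤ normalizer (V : Set (MulAut K)) := by
    have hle : ∀ p ∈ (P : Subgroup (MulAut K)), ∀ v ∈ V, p * v * p⁻¹ ∈ V := by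
      intro p hp v hv
      exact ⟨(P : Subgroup (MulAut K)).mul_mem ((P : Subgroup (MulAut K)).mul_mem hp hv.1)
        ((P : Subgroup (MulAut K)).inv_mem hp), hRn.conj_mem v hv.2 p⟩
    intro p hp
    rw [mem_normalizer_iff]
    intro v
    constructor
    · exact hle p (hP hp) v
    · intro hv
      have h1 := hle p⁻¹ ((P : Subgroup (MulAut K)).inv_mem (hP hp)) _ hv
      have h3 : p⁻¹ * (p * v * p⁻¹) * p⁻¹⁻¹ = v := by group
      rwa [h3] at h1
  have hσV := hcomm (zpowers σ) hpσ (fun _ _ => by rw [mul_one, one_mul]) hσN σ (mem_zpowers σ)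
  have hfix : ∀ s ∈ (S : Subgroup K), σ s = s := by
    intro s hs
    apply hinj
    rw [EndBase.conj_app]
    have h1 := hσV (MulAut.conj s) (by rw [← hmap]; exact ⟨s, hs, rfl⟩)
    rw [h1, mul_inv_cancel_right]
  have hScomm : ∀ x ∈ (S : Subgroup K), ∀ y ∈ (S : Subgroup K), x * y = y * x := by
    intro x hx y hy
    have h1 := hsq x hx
    have h3 := hsq y hy
    have h4 := hsq _ ((S : Subgroup K).mul_mem hx hy)
    calc x * y = (x * y)⁻¹ := (inv_eq_of_mul_eq_one_right h4).symm
      _ = y * x := by rw [mul_inv_rev, inv_eq_of_mul_eq_one_right h1, inv_eq_of_mul_eq_one_right h3]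
  have hS1 : (S : Subgroup K) ≠ ⊥ := by
    intro h
    have h1 : Nat.card (S : Subgroup K) = 8 := h8
    rw [h, card_bot] at h1
    omega
  obtain ⟨v, -, hv⟩ := AbelAut.eq_conj hna S hScomm hS1 σ hpσ hfix
  refine ⟨v, ?_⟩
  ext x
  rw [hv x, MulAut.conj_apply]

theorem autCoreFree {K : Type u} [Group K] [IsSimpleGroup K] (hna : ¬ IsMulCommutative K)
    (B : Abs.Bal K) : EndBase.AutCoreFree K ∧ center K = ⊥ := by
  have hfin := B.fin
  have hna' : ∃ a b : K, a * b ≠ b * a := by
    by_contra h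
    push Not at h
    exact hna ⟨⟨h⟩⟩
  have hc : center K = ⊥ := by
    rcases (inferInstance : (center K).Normal).eq_bot_or_eq_top with h | h
    · exact h
    · exfalso
      obtain ⟨a, b, hab⟩ := hna'
      have h1 : b ∈ center K := by rw [h]; trivial
      exact hab (mem_center_iff.1 h1 a)
  have hinj := EndBase.conj_inj hc
  have key : ∀ σ : MulAut K, orderOf σ = 2 → ∃ v : K, σ = MulAut.conj v ∧ v * v = 1 ∧ v ≠ 1 := by
    intro σ hσ
    obtain ⟨v, hv⟩ := exists_conj hna' B.syl σ hσ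
    refine ⟨v, hv, ?_, ?_⟩
    · apply hinj
      rw [map_mul, map_one, ← hv, ← pow_two, ← hσ, pow_orderOf_eq_one]
    · rintro rfl
      rw [hv, map_one, orderOf_one] at hσ
      omega
  refine ⟨⟨?_, ?_⟩, hc⟩
  · intro σ hσ Y hY hfix hn
    obtain ⟨v, rfl, hvv, hv1⟩ := key σ hσ
    have hcen : ∀ x : K, x ∈ centralizer ({v} : Set K) ↔ MulAut.conj v x = x := by
      intro x
      rw [mem_centralizer_singleton_iff, MulAut.conj_apply, mul_inv_eq_iff_eq_mul]
      exact eq_comm
    exact B.core v hvv hv1 Y (fun x hx => (hcen x).2 (hfix x hx)) (fun g hg x hx => hn g ((hcen g).1 hg) x hx) hY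
  · intro σ ρ hσ _ hρ hfix
    obtain ⟨v, rfl, hvv, hv1⟩ := key σ hσ
    have h1 : ρ = 1 := by
      apply B.aut v hvv hv1 ρ hρ
      intro x hx
      apply hfix
      rw [MulAut.conj_apply, mul_inv_eq_iff_eq_mul, hx]
    rw [h1]
    exact one_mem _

/-- a simple group with `Bal` is locally balanced -/
theorem locallyBalanced {K : Type u} [Group K] [IsSimpleGroup K] (hna : ¬ IsMulCommutative K)
    (B : Abs.Bal K) : IsLocallyBalanced K := by
  have hfin := B.fin
  obtain ⟨h, hc⟩ := autCoreFree hna B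
  exact h.locallyBalanced hc

end Cfsg.Agent.UGT.EndJ1.Inner
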