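import Cfsg.Agent.UGT.End
import Cfsg.Agent.UGT.EndJ1.Inner
import Cfsg.Agent.UGT.EndJ1.Data

/-!
# END(J₁)

`J₁` is locally balanced: `O(C_G(t)) = 1` for every involution `t` of a group `G` with `F*(G) ≅ J₁`.
-/

set_option autoImplicit false

namespace Cfsg.Agent.UGT.EndJ1.Main

open Subgroup Cfsg
open Cfsg.Agent.UGT.Iface

universe u

local notation "Fs" => generalizedFittingSubgroup

theorem simple : IsSimpleGroup Spor.J1 := SporadicB.J1.Main.isJ1.1

theorem not_comm : ¬ IsMulCommutative Spor.J1 := by
  intro h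
  have hs := simple
  let _ : CommGroup Spor.J1 := { (inferInstance : Group Spor.J1) with mul_comm := h.is_comm.comm }
  have hfin : Finite Spor.J1 := Data.bal.fin
  have hp : (Nat.card Spor.J1).Prime := IsSimpleGroup.prime_card
  rw [SporadicB.J1.Main.isJ1.2] at hp
  norm_num at hp

theorem locallyBalanced_J1 : IsLocallyBalanced Spor.J1 := by
  have hs := simple
  exact Inner.locallyBalanced not_comm Data.bal

/-- groups isomorphic to `J₁` are locally balanced -/
theorem locallyBalanced {X : Type u} [Group X] (h : Spor.IsoJ1 X) : IsLocallyBalanced X := by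
  obtain ⟨e⟩ := h
  exact End.locallyBalanced_congr e.symm locallyBalanced_J1

/-- the node END for `J₁` -/
theorem lb {X : Type u} [Group X] (h : Spor.IsoJ1 X) : End.LB X := by
  have h1 := locallyBalanced h
  obtain ⟨e⟩ := h
  exact End.LB.of_locallyBalanced (FixBN.BRelative.simple_congr e.symm simple)
    (FixBN.BRelative.not_comm_congr e.symm not_comm) h1

/-- `F*(G) ≅ J₁`: involution centralizers of `G` are core-free -/
theorem core_eq_bot {G : Type u} [Group G] [Finite G] (h : Spor.IsoJ1 ↥(Fs G)) (t : G)
    (ht : orderOf t = 2) : centralizerPPrimeCore 2 t = ⊥ := by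
  have h1 := locallyBalanced h
  obtain ⟨e⟩ := h
  exact FixBN.BRelative.core_eq_bot (FixBN.BRelative.simple_congr e.symm simple)
    (FixBN.BRelative.not_comm_congr e.symm not_comm) h1 ht

/-- **END(J₁)**: `F*(G)` of a minimal counterexample is not `J₁` -/
theorem not_minCex {G : Type u} [Group G] [Finite G] (h : MinCex G) : ¬ Spor.IsoJ1 ↥(Fs G) :=
  fun hJ => End.not_minCex h (lb hJ)

end Cfsg.Agent.UGT.EndJ1.Main
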